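import Cfsg.Agent.H33.Blk.ColGen
import Cfsg.Agent.H33.Blk.ColOdd
import Cfsg.Agent.H33.Blk.ColData
import Cfsg.Agent.H33.Blk.ColDat2
import Cfsg.Agent.H33.Blk.ColPO
import Cfsg.Agent.H33.Blk.ColF0
import Cfsg.Agent.H33.Blk.ColF1
import Cfsg.Agent.H33.Blk.ColF2
import Cfsg.Agent.H33.Blk.ColO_18_0
import Cfsg.Agent.H33.Blk.ColO_18_1
import Cfsg.Agent.H33.Blk.ColO_18_2
import Cfsg.Agent.H33.Blk.ColO_18_3
import Cfsg.Agent.H33.Blk.ColO_18_4
import Cfsg.Agent.H33.Blk.ColO_18_5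
import Cfsg.Agent.H33.Blk.ColO_18_6
import Cfsg.Agent.H33.Blk.ColO_18_7
import Cfsg.Agent.H33.Blk.ColO_18_8
import Cfsg.Agent.H33.Blk.ColO_18_9
import Cfsg.Agent.H33.Blk.ColO_18_10
import Cfsg.Agent.H33.Blk.ColO_18_11
import Cfsg.Agent.H33.Blk.ColO_18_12
import Cfsg.Agent.H33.Blk.ColO_18_13
import Cfsg.Agent.H33.Blk.ColO_18_14
import Cfsg.Agent.H33.Blk.ColO_18_15
import Cfsg.Agent.H33.Blk.ColO_19_0
import Cfsg.Agent.H33.Blk.ColO_19_1
import Cfsg.Agent.H33.Blk.ColO_19_2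
import Cfsg.Agent.H33.Blk.ColO_19_3
import Cfsg.Agent.H33.Blk.ColO_19_4
import Cfsg.Agent.H33.Blk.ColO_19_5
import Cfsg.Agent.H33.Blk.ColO_19_6
import Cfsg.Agent.H33.Blk.ColO_19_7
import Cfsg.Agent.H33.Blk.ColO_19_8
import Cfsg.Agent.H33.Blk.ColO_19_9
import Cfsg.Agent.H33.Blk.ColO_19_10
import Cfsg.Agent.H33.Blk.ColO_19_11
import Cfsg.Agent.H33.Blk.ColO_19_12
import Cfsg.Agent.H33.Blk.ColO_19_13
import Cfsg.Agent.H33.Blk.ColO_19_14
import Cfsg.Agent.H33.Blk.ColO_19_15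
import Cfsg.Agent.H33.Blk.ColO_20_0
import Cfsg.Agent.H33.Blk.ColO_20_1
import Cfsg.Agent.H33.Blk.ColO_20_2
import Cfsg.Agent.H33.Blk.ColO_20_3
import Cfsg.Agent.H33.Blk.ColO_20_4
import Cfsg.Agent.H33.Blk.ColO_20_5
import Cfsg.Agent.H33.Blk.ColO_20_6
import Cfsg.Agent.H33.Blk.ColO_20_7
import Cfsg.Agent.H33.Blk.ColO_20_8
import Cfsg.Agent.H33.Blk.ColO_20_9
import Cfsg.Agent.H33.Blk.ColO_20_10
import Cfsg.Agent.H33.Blk.ColO_20_11
import Cfsg.Agent.H33.Blk.ColO_20_12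
import Cfsg.Agent.H33.Blk.ColO_20_13
import Cfsg.Agent.H33.Blk.ColO_20_14
import Cfsg.Agent.H33.Blk.ColO_20_15

/-!
# The columns of the squares of the class sums of `M24` modulo 2 (helper33; generated)

`col_all`: for the class representative `rhoG j` and a value `κ` of the class invariant, the parity
of the number of `x` with invariant `κ` such that `x⁻¹ * rhoG j` has invariant `κ` is the bit `κ`
of `Etab j`.
-/

set_option autoImplicit false

namespace Cfsg.Agent.H33.Blk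

open Cfsg Cfsg.Agent.H9 Cfsg.Agent.H33 Cfsg.Agent.H94 Cfsg.Agent.S5608

/-- the class representatives as elements of `M24` -/
def rhoG (j : ℕ) : ↥M24 := ⟨rhoN j, rhoN_mem j⟩

theorem rhoG_rep {j : ℕ} (hj : j < 21) : Rep (fldG RR j) (rhoG j).1 := rhoN_rep hj

/-- the involution with fixed points -/
def invA : ↥M24 := ⟨r8e, r8e_mem⟩

/-- the involution without fixed points -/
def invB : ↥M24 := ⟨r0e, r0e_mem⟩

theorem invA_sq : invA * invA = 1 := Subtype.ext r8e_sq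

theorem invB_sq : invB * invB = 1 := Subtype.ext r0e_sq

/-! ### column 0 (class 1A) -/

theorem fac_0 : chkInv cB_0 cBI_0 = true ∧ chkM24 cB_0 = true ∧ chkInv cW_0 cW_0 = true ∧
    chkM24 cW_0 = true ∧ relN cB_0 cB_0 cW_0 = true ∧
    Nat.beq (mulN cB_0 cB_0) (fldG RR 0) = true := by decide +kernel

theorem col_0 [Fintype ↥M24] (κ : ℕ) :
    (Finset.univ.filter fun x : ↥M24 => cdG x = κ ∧ cdG (x⁻¹ * rhoG 0) = κ).card % 2
      = if (E_0).testBit κ = true then 1 else 0 :=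
  colI_pack fac_0.1 fac_0.2.1 fac_0.2.2.1 fac_0.2.2.2.1 (Or.inl fac_0.2.2.2.2.1)
    (Nat.eq_of_beq_eq_true fac_0.2.2.2.2.2) pass_0 (rhoG_rep (by norm_num)) κ

/-! ### column 1 (class 2A) -/

theorem fac_1 : chkInv (fldG BB 1) (fldG BBI 1) = true ∧ chkM24 (fldG BB 1) = true ∧
    commN r8 (fldG BB 1) = true ∧
    Nat.beq (mulN r8 (mulN (fldG BB 1) (fldG BB 1))) (fldG RR 1) = true := by decide +kernel

theorem pass_1 : par (fun n => cdM (fldG BB 1) (fldG sqA n)) 224 = E_1 := by decide +kernel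

theorem col_1 [Fintype ↥M24] (κ : ℕ) :
    (Finset.univ.filter fun x : ↥M24 => cdG x = κ ∧ cdG (x⁻¹ * rhoG 1) = κ).card % 2
      = if (E_1).testBit κ = true then 1 else 0 :=
  colS_pack (c := invA) r8e_rep invA_sq fac_1.1 fac_1.2.1 fac_1.2.2.1
    (Nat.eq_of_beq_eq_true fac_1.2.2.2) (fun _ hn => enumA_mem hn)
    (fun _ hm _ hn e => enumA_inj hm hn e) (fun _ hz hzz => enumA_surj hz hzz) pass_1
    (rhoG_rep (by norm_num)) κ

/-! ### column 2 (class 2B) -/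

theorem fac_2 : chkInv (fldG BB 2) (fldG BBI 2) = true ∧ chkM24 (fldG BB 2) = true ∧
    commN r0 (fldG BB 2) = true ∧
    Nat.beq (mulN r0 (mulN (fldG BB 2) (fldG BB 2))) (fldG RR 2) = true := by decide +kernel

theorem pass_2 : par (fun n => cdM (fldG BB 2) (fldG sqB n)) 80 = E_2 := by decide +kernel

theorem col_2 [Fintype ↥M24] (κ : ℕ) :
    (Finset.univ.filter fun x : ↥M24 => cdG x = κ ∧ cdG (x⁻¹ * rhoG 2) = κ).card % 2
      = if (E_2).testBit κ = true then 1 else 0 :=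
  colS_pack (c := invB) r0e_rep invB_sq fac_2.1 fac_2.2.1 fac_2.2.2.1
    (Nat.eq_of_beq_eq_true fac_2.2.2.2) (fun _ hn => enumB_mem hn)
    (fun _ hm _ hn e => enumB_inj hm hn e) (fun _ hz hzz => enumB_surj hz hzz) pass_2
    (rhoG_rep (by norm_num)) κ

/-! ### column 3 (class 3A) -/

theorem fac_3 : chkInv cB_3 cBI_3 = true ∧ chkM24 cB_3 = true ∧ chkInv cW_3 cW_3 = true ∧
    chkM24 cW_3 = true ∧ relN cB_3 cBI_3 cW_3 = true ∧
    Nat.beq (mulN cB_3 cB_3) (fldG RR 3) = true := by decide +kernel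

theorem col_3 [Fintype ↥M24] (κ : ℕ) :
    (Finset.univ.filter fun x : ↥M24 => cdG x = κ ∧ cdG (x⁻¹ * rhoG 3) = κ).card % 2
      = if (E_3).testBit κ = true then 1 else 0 :=
  colI_pack fac_3.1 fac_3.2.1 fac_3.2.2.1 fac_3.2.2.2.1 (Or.inr fac_3.2.2.2.2.1)
    (Nat.eq_of_beq_eq_true fac_3.2.2.2.2.2) pass_3 (rhoG_rep (by norm_num)) κ

/-! ### column 4 (class 3B) -/

theorem fac_4 : chkInv cB_4 cBI_4 = true ∧ chkM24 cB_4 = true ∧ chkInv cW_4 cW_4 = true ∧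
    chkM24 cW_4 = true ∧ relN cB_4 cBI_4 cW_4 = true ∧
    Nat.beq (mulN cB_4 cB_4) (fldG RR 4) = true := by decide +kernel

theorem col_4 [Fintype ↥M24] (κ : ℕ) :
    (Finset.univ.filter fun x : ↥M24 => cdG x = κ ∧ cdG (x⁻¹ * rhoG 4) = κ).card % 2
      = if (E_4).testBit κ = true then 1 else 0 :=
  colI_pack fac_4.1 fac_4.2.1 fac_4.2.2.1 fac_4.2.2.2.1 (Or.inr fac_4.2.2.2.2.1)
    (Nat.eq_of_beq_eq_true fac_4.2.2.2.2.2) pass_4 (rhoG_rep (by norm_num)) κ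

/-! ### column 5 (class 4B) -/

theorem fac_5 : chkInv cB_5 cBI_5 = true ∧ chkM24 cB_5 = true ∧ chkInv cW_5 cW_5 = true ∧
    chkM24 cW_5 = true ∧ relN cB_5 cBI_5 cW_5 = true ∧
    Nat.beq (mulN cB_5 cB_5) (fldG RR 5) = true := by decide +kernel

theorem col_5 [Fintype ↥M24] (κ : ℕ) :
    (Finset.univ.filter fun x : ↥M24 => cdG x = κ ∧ cdG (x⁻¹ * rhoG 5) = κ).card % 2
      = if (E_5).testBit κ = true then 1 else 0 :=
  colI_pack fac_5.1 fac_5.2.1 fac_5.2.2.1 fac_5.2.2.2.1 (Or.inr fac_5.2.2.2.2.1)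
    (Nat.eq_of_beq_eq_true fac_5.2.2.2.2.2) pass_5 (rhoG_rep (by norm_num)) κ

/-! ### column 6 (class 4A) -/

theorem fac_6 : chkInv (fldG BB 6) (fldG BBI 6) = true ∧ chkM24 (fldG BB 6) = true ∧
    chkInv (fldG CC 6) (fldG CCI 6) = true ∧ chkM24 (fldG CC 6) = true ∧
    commN (fldG CC 6) (fldG BB 6) = true ∧
    Nat.beq (mulN (fldG CC 6) (mulN (fldG BB 6) (fldG BB 6))) (fldG RR 6) = true ∧
    fixN (pwN (fldG CC 6) (2 ^ 2)) = 24 ∧
    allB (fun i => !(Nat.beq (cdN (mulN (fldG RR i) (fldG RR i))) (cdN (fldG CC 6)))) 21 = true := by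
  decide +kernel

theorem col_6 [Fintype ↥M24] (κ : ℕ) :
    (Finset.univ.filter fun x : ↥M24 => cdG x = κ ∧ cdG (x⁻¹ * rhoG 6) = κ).card % 2
      = if (E_6).testBit κ = true then 1 else 0 := by
  rw [colN_pack 2 fac_6.1 fac_6.2.1 fac_6.2.2.1 fac_6.2.2.2.1 fac_6.2.2.2.2.1
    (Nat.eq_of_beq_eq_true fac_6.2.2.2.2.2.1) fac_6.2.2.2.2.2.2.1
    fac_6.2.2.2.2.2.2.2 (rhoG_rep (by norm_num)) κ]
  have e : E_6 = 0 := rfl
  rw [e, Nat.zero_testBit]
  rfl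

/-! ### column 7 (class 4C) -/

theorem fac_7 : chkInv (fldG BB 7) (fldG BBI 7) = true ∧ chkM24 (fldG BB 7) = true ∧
    chkInv (fldG CC 7) (fldG CCI 7) = true ∧ chkM24 (fldG CC 7) = true ∧
    commN (fldG CC 7) (fldG BB 7) = true ∧
    Nat.beq (mulN (fldG CC 7) (mulN (fldG BB 7) (fldG BB 7))) (fldG RR 7) = true ∧
    fixN (pwN (fldG CC 7) (2 ^ 2)) = 24 ∧
    allB (fun i => !(Nat.beq (cdN (mulN (fldG RR i) (fldG RR i))) (cdN (fldG CC 7)))) 21 = true := by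
  decide +kernel

theorem col_7 [Fintype ↥M24] (κ : ℕ) :
    (Finset.univ.filter fun x : ↥M24 => cdG x = κ ∧ cdG (x⁻¹ * rhoG 7) = κ).card % 2
      = if (E_7).testBit κ = true then 1 else 0 := by
  rw [colN_pack 2 fac_7.1 fac_7.2.1 fac_7.2.2.1 fac_7.2.2.2.1 fac_7.2.2.2.2.1
    (Nat.eq_of_beq_eq_true fac_7.2.2.2.2.2.1) fac_7.2.2.2.2.2.2.1
    fac_7.2.2.2.2.2.2.2 (rhoG_rep (by norm_num)) κ]
  have e : E_7 = 0 := rfl
  rw [e, Nat.zero_testBit]
  rfl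

/-! ### column 8 (class 5A) -/

theorem fac_8 : chkInv cB_8 cBI_8 = true ∧ chkM24 cB_8 = true ∧ chkInv cW_8 cW_8 = true ∧
    chkM24 cW_8 = true ∧ relN cB_8 cB_8 cW_8 = true ∧
    Nat.beq (mulN cB_8 cB_8) (fldG RR 8) = true := by decide +kernel

theorem col_8 [Fintype ↥M24] (κ : ℕ) :
    (Finset.univ.filter fun x : ↥M24 => cdG x = κ ∧ cdG (x⁻¹ * rhoG 8) = κ).card % 2
      = if (E_8).testBit κ = true then 1 else 0 :=
  colI_pack fac_8.1 fac_8.2.1 fac_8.2.2.1 fac_8.2.2.2.1 (Or.inl fac_8.2.2.2.2.1)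
    (Nat.eq_of_beq_eq_true fac_8.2.2.2.2.2) pass_8 (rhoG_rep (by norm_num)) κ

/-! ### column 9 (class 6A) -/

theorem fac_9 : chkInv (fldG BB 9) (fldG BBI 9) = true ∧ chkM24 (fldG BB 9) = true ∧
    commN r8 (fldG BB 9) = true ∧
    Nat.beq (mulN r8 (mulN (fldG BB 9) (fldG BB 9))) (fldG RR 9) = true := by decide +kernel

theorem pass_9 : par (fun n => cdM (fldG BB 9) (fldG sqA n)) 224 = E_9 := by decide +kernel

theorem col_9 [Fintype ↥M24] (κ : ℕ) :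
    (Finset.univ.filter fun x : ↥M24 => cdG x = κ ∧ cdG (x⁻¹ * rhoG 9) = κ).card % 2
      = if (E_9).testBit κ = true then 1 else 0 :=
  colS_pack (c := invA) r8e_rep invA_sq fac_9.1 fac_9.2.1 fac_9.2.2.1
    (Nat.eq_of_beq_eq_true fac_9.2.2.2) (fun _ hn => enumA_mem hn)
    (fun _ hm _ hn e => enumA_inj hm hn e) (fun _ hz hzz => enumA_surj hz hzz) pass_9
    (rhoG_rep (by norm_num)) κ

/-! ### column 10 (class 6B) -/

theorem fac_10 : chkInv (fldG BB 10) (fldG BBI 10) = true ∧ chkM24 (fldG BB 10) = true ∧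
    commN r0 (fldG BB 10) = true ∧
    Nat.beq (mulN r0 (mulN (fldG BB 10) (fldG BB 10))) (fldG RR 10) = true := by decide +kernel

theorem pass_10 : par (fun n => cdM (fldG BB 10) (fldG sqB n)) 80 = E_10 := by decide +kernel

theorem col_10 [Fintype ↥M24] (κ : ℕ) :
    (Finset.univ.filter fun x : ↥M24 => cdG x = κ ∧ cdG (x⁻¹ * rhoG 10) = κ).card % 2
      = if (E_10).testBit κ = true then 1 else 0 :=
  colS_pack (c := invB) r0e_rep invB_sq fac_10.1 fac_10.2.1 fac_10.2.2.1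
    (Nat.eq_of_beq_eq_true fac_10.2.2.2) (fun _ hn => enumB_mem hn)
    (fun _ hm _ hn e => enumB_inj hm hn e) (fun _ hz hzz => enumB_surj hz hzz) pass_10
    (rhoG_rep (by norm_num)) κ

/-! ### column 11 (class 7) -/

theorem fac_11 : chkInv cB_11 cBI_11 = true ∧ chkM24 cB_11 = true ∧ chkInv cW_11 cW_11 = true ∧
    chkM24 cW_11 = true ∧ relN cB_11 cB_11 cW_11 = true ∧
    Nat.beq (mulN cB_11 cB_11) (fldG RR 11) = true := by decide +kernel

theorem col_11 [Fintype ↥M24] (κ : ℕ) :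
    (Finset.univ.filter fun x : ↥M24 => cdG x = κ ∧ cdG (x⁻¹ * rhoG 11) = κ).card % 2
      = if (E_11).testBit κ = true then 1 else 0 :=
  colI_pack fac_11.1 fac_11.2.1 fac_11.2.2.1 fac_11.2.2.2.1 (Or.inl fac_11.2.2.2.2.1)
    (Nat.eq_of_beq_eq_true fac_11.2.2.2.2.2) pass_11 (rhoG_rep (by norm_num)) κ

/-! ### column 12 (class 8A) -/

theorem fac_12 : chkInv (fldG BB 12) (fldG BBI 12) = true ∧ chkM24 (fldG BB 12) = true ∧
    chkInv (fldG CC 12) (fldG CCI 12) = true ∧ chkM24 (fldG CC 12) = true ∧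
    commN (fldG CC 12) (fldG BB 12) = true ∧
    Nat.beq (mulN (fldG CC 12) (mulN (fldG BB 12) (fldG BB 12))) (fldG RR 12) = true ∧
    fixN (pwN (fldG CC 12) (2 ^ 3)) = 24 ∧
    allB (fun i => !(Nat.beq (cdN (mulN (fldG RR i) (fldG RR i))) (cdN (fldG CC 12)))) 21 = true := by
  decide +kernel

theorem col_12 [Fintype ↥M24] (κ : ℕ) :
    (Finset.univ.filter fun x : ↥M24 => cdG x = κ ∧ cdG (x⁻¹ * rhoG 12) = κ).card % 2
      = if (E_12).testBit κ = true then 1 else 0 := by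
  rw [colN_pack 3 fac_12.1 fac_12.2.1 fac_12.2.2.1 fac_12.2.2.2.1 fac_12.2.2.2.2.1
    (Nat.eq_of_beq_eq_true fac_12.2.2.2.2.2.1) fac_12.2.2.2.2.2.2.1
    fac_12.2.2.2.2.2.2.2 (rhoG_rep (by norm_num)) κ]
  have e : E_12 = 0 := rfl
  rw [e, Nat.zero_testBit]
  rfl

/-! ### column 13 (class 10A) -/

theorem fac_13 : chkInv (fldG BB 13) (fldG BBI 13) = true ∧ chkM24 (fldG BB 13) = true ∧
    commN r0 (fldG BB 13) = true ∧
    Nat.beq (mulN r0 (mulN (fldG BB 13) (fldG BB 13))) (fldG RR 13) = true := by decide +kernel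

theorem pass_13 : par (fun n => cdM (fldG BB 13) (fldG sqB n)) 80 = E_13 := by decide +kernel

theorem col_13 [Fintype ↥M24] (κ : ℕ) :
    (Finset.univ.filter fun x : ↥M24 => cdG x = κ ∧ cdG (x⁻¹ * rhoG 13) = κ).card % 2
      = if (E_13).testBit κ = true then 1 else 0 :=
  colS_pack (c := invB) r0e_rep invB_sq fac_13.1 fac_13.2.1 fac_13.2.2.1
    (Nat.eq_of_beq_eq_true fac_13.2.2.2) (fun _ hn => enumB_mem hn)
    (fun _ hm _ hn e => enumB_inj hm hn e) (fun _ hz hzz => enumB_surj hz hzz) pass_13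
    (rhoG_rep (by norm_num)) κ

/-! ### column 14 (class 11A) -/

theorem fac_14 : chkInv cB_14 cBI_14 = true ∧ chkM24 cB_14 = true ∧ chkInv cW_14 cW_14 = true ∧
    chkM24 cW_14 = true ∧ relN cB_14 cBI_14 cW_14 = true ∧
    Nat.beq (mulN cB_14 cB_14) (fldG RR 14) = true := by decide +kernel

theorem col_14 [Fintype ↥M24] (κ : ℕ) :
    (Finset.univ.filter fun x : ↥M24 => cdG x = κ ∧ cdG (x⁻¹ * rhoG 14) = κ).card % 2
      = if (E_14).testBit κ = true then 1 else 0 :=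
  colI_pack fac_14.1 fac_14.2.1 fac_14.2.2.1 fac_14.2.2.2.1 (Or.inr fac_14.2.2.2.2.1)
    (Nat.eq_of_beq_eq_true fac_14.2.2.2.2.2) pass_14 (rhoG_rep (by norm_num)) κ

/-! ### column 15 (class 12A) -/

theorem fac_15 : chkInv (fldG BB 15) (fldG BBI 15) = true ∧ chkM24 (fldG BB 15) = true ∧
    chkInv (fldG CC 15) (fldG CCI 15) = true ∧ chkM24 (fldG CC 15) = true ∧
    commN (fldG CC 15) (fldG BB 15) = true ∧
    Nat.beq (mulN (fldG CC 15) (mulN (fldG BB 15) (fldG BB 15))) (fldG RR 15) = true ∧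
    fixN (pwN (fldG CC 15) (2 ^ 2)) = 24 ∧
    allB (fun i => !(Nat.beq (cdN (mulN (fldG RR i) (fldG RR i))) (cdN (fldG CC 15)))) 21 = true := by
  decide +kernel

theorem col_15 [Fintype ↥M24] (κ : ℕ) :
    (Finset.univ.filter fun x : ↥M24 => cdG x = κ ∧ cdG (x⁻¹ * rhoG 15) = κ).card % 2
      = if (E_15).testBit κ = true then 1 else 0 := by
  rw [colN_pack 2 fac_15.1 fac_15.2.1 fac_15.2.2.1 fac_15.2.2.2.1 fac_15.2.2.2.2.1
    (Nat.eq_of_beq_eq_true fac_15.2.2.2.2.2.1) fac_15.2.2.2.2.2.2.1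
    fac_15.2.2.2.2.2.2.2 (rhoG_rep (by norm_num)) κ]
  have e : E_15 = 0 := rfl
  rw [e, Nat.zero_testBit]
  rfl

/-! ### column 16 (class 12B) -/

theorem fac_16 : chkInv (fldG BB 16) (fldG BBI 16) = true ∧ chkM24 (fldG BB 16) = true ∧
    chkInv (fldG CC 16) (fldG CCI 16) = true ∧ chkM24 (fldG CC 16) = true ∧
    commN (fldG CC 16) (fldG BB 16) = true ∧
    Nat.beq (mulN (fldG CC 16) (mulN (fldG BB 16) (fldG BB 16))) (fldG RR 16) = true ∧
    fixN (pwN (fldG CC 16) (2 ^ 2)) = 24 ∧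
    allB (fun i => !(Nat.beq (cdN (mulN (fldG RR i) (fldG RR i))) (cdN (fldG CC 16)))) 21 = true := by
  decide +kernel

theorem col_16 [Fintype ↥M24] (κ : ℕ) :
    (Finset.univ.filter fun x : ↥M24 => cdG x = κ ∧ cdG (x⁻¹ * rhoG 16) = κ).card % 2
      = if (E_16).testBit κ = true then 1 else 0 := by
  rw [colN_pack 2 fac_16.1 fac_16.2.1 fac_16.2.2.1 fac_16.2.2.2.1 fac_16.2.2.2.2.1
    (Nat.eq_of_beq_eq_true fac_16.2.2.2.2.2.1) fac_16.2.2.2.2.2.2.1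
    fac_16.2.2.2.2.2.2.2 (rhoG_rep (by norm_num)) κ]
  have e : E_16 = 0 := rfl
  rw [e, Nat.zero_testBit]
  rfl

/-! ### column 17 (class 14) -/

theorem fac_17 : chkInv (fldG BB 17) (fldG BBI 17) = true ∧ chkM24 (fldG BB 17) = true ∧
    commN r8 (fldG BB 17) = true ∧
    Nat.beq (mulN r8 (mulN (fldG BB 17) (fldG BB 17))) (fldG RR 17) = true := by decide +kernel

theorem pass_17 : par (fun n => cdM (fldG BB 17) (fldG sqA n)) 224 = E_17 := by decide +kernel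

theorem col_17 [Fintype ↥M24] (κ : ℕ) :
    (Finset.univ.filter fun x : ↥M24 => cdG x = κ ∧ cdG (x⁻¹ * rhoG 17) = κ).card % 2
      = if (E_17).testBit κ = true then 1 else 0 :=
  colS_pack (c := invA) r8e_rep invA_sq fac_17.1 fac_17.2.1 fac_17.2.2.1
    (Nat.eq_of_beq_eq_true fac_17.2.2.2) (fun _ hn => enumA_mem hn)
    (fun _ hm _ hn e => enumA_inj hm hn e) (fun _ hz hzz => enumA_surj hz hzz) pass_17
    (rhoG_rep (by norm_num)) κ

/-! ### column 18 (class 15) -/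

theorem fac_18 : chkInv cB_18 cBI_18 = true ∧ chkM24 cB_18 = true ∧
    Nat.beq (mulN cB_18 cB_18) (fldG RR 18) = true ∧ fixN (pwN cB_18 15) = 24 ∧
    allB (fun k => allB (fun l => Nat.beq k l ||
      !(Nat.beq (itN cB_18 k 9) (itN cB_18 l 9))) 15) 15 = true ∧
    allB (fun q => cond (tb 7441151 q) (anyB (fun k => Nat.beq q (itN cB_18 k 9)) 15)
      (!(anyB (fun k => Nat.beq q (itN cB_18 k 9)) 15))) 24 = true := by decide +kernel

theorem pass_18 : passG (fO 9 7441151) cB_18 = E_18 :=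
  (parX_congr (forall_lt_16 (fun d => rngG (fO 9 7441151) cB_18 d = PTO_18 d)
    rO_18_0 rO_18_1 rO_18_2 rO_18_3 rO_18_4 rO_18_5 rO_18_6 rO_18_7 rO_18_8 rO_18_9 rO_18_10 rO_18_11 rO_18_12 rO_18_13 rO_18_14 rO_18_15)).trans (by decide +kernel)

theorem col_18 [Fintype ↥M24] (κ : ℕ) :
    (Finset.univ.filter fun x : ↥M24 => cdG x = κ ∧ cdG (x⁻¹ * rhoG 18) = κ).card % 2
      = if (E_18).testBit κ = true then 1 else 0 :=
  colO_pack 15 9 7441151 fac_18.1 fac_18.2.1 (Nat.eq_of_beq_eq_true fac_18.2.2.1)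
    fac_18.2.2.2.1 (by norm_num) (by norm_num) fac_18.2.2.2.2.1 fac_18.2.2.2.2.2 pass_18
    (rhoG_rep (by norm_num)) κ

/-! ### column 19 (class 21) -/

theorem fac_19 : chkInv cB_19 cBI_19 = true ∧ chkM24 cB_19 = true ∧
    Nat.beq (mulN cB_19 cB_19) (fldG RR 19) = true ∧ fixN (pwN cB_19 21) = 24 ∧
    allB (fun k => allB (fun l => Nat.beq k l ||
      !(Nat.beq (itN cB_19 k 20) (itN cB_19 l 20))) 21) 21 = true ∧
    allB (fun q => cond (tb 8384509 q) (anyB (fun k => Nat.beq q (itN cB_19 k 20)) 21)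
      (!(anyB (fun k => Nat.beq q (itN cB_19 k 20)) 21))) 24 = true := by decide +kernel

theorem pass_19 : passG (fO 20 8384509) cB_19 = E_19 :=
  (parX_congr (forall_lt_16 (fun d => rngG (fO 20 8384509) cB_19 d = PTO_19 d)
    rO_19_0 rO_19_1 rO_19_2 rO_19_3 rO_19_4 rO_19_5 rO_19_6 rO_19_7 rO_19_8 rO_19_9 rO_19_10 rO_19_11 rO_19_12 rO_19_13 rO_19_14 rO_19_15)).trans (by decide +kernel)

theorem col_19 [Fintype ↥M24] (κ : ℕ) :
    (Finset.univ.filter fun x : ↥M24 => cdG x = κ ∧ cdG (x⁻¹ * rhoG 19) = κ).card % 2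
      = if (E_19).testBit κ = true then 1 else 0 :=
  colO_pack 21 20 8384509 fac_19.1 fac_19.2.1 (Nat.eq_of_beq_eq_true fac_19.2.2.1)
    fac_19.2.2.2.1 (by norm_num) (by norm_num) fac_19.2.2.2.2.1 fac_19.2.2.2.2.2 pass_19
    (rhoG_rep (by norm_num)) κ

/-! ### column 20 (class 23) -/

theorem fac_20 : chkInv cB_20 cBI_20 = true ∧ chkM24 cB_20 = true ∧
    Nat.beq (mulN cB_20 cB_20) (fldG RR 20) = true ∧ fixN (pwN cB_20 23) = 24 ∧
    allB (fun k => allB (fun l => Nat.beq k l ||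
      !(Nat.beq (itN cB_20 k 17) (itN cB_20 l 17))) 23) 23 = true ∧
    allB (fun q => cond (tb 16744447 q) (anyB (fun k => Nat.beq q (itN cB_20 k 17)) 23)
      (!(anyB (fun k => Nat.beq q (itN cB_20 k 17)) 23))) 24 = true := by decide +kernel

theorem pass_20 : passG (fO 17 16744447) cB_20 = E_20 :=
  (parX_congr (forall_lt_16 (fun d => rngG (fO 17 16744447) cB_20 d = PTO_20 d)
    rO_20_0 rO_20_1 rO_20_2 rO_20_3 rO_20_4 rO_20_5 rO_20_6 rO_20_7 rO_20_8 rO_20_9 rO_20_10 rO_20_11 rO_20_12 rO_20_13 rO_20_14 rO_20_15)).trans (by decide +kernel)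

theorem col_20 [Fintype ↥M24] (κ : ℕ) :
    (Finset.univ.filter fun x : ↥M24 => cdG x = κ ∧ cdG (x⁻¹ * rhoG 20) = κ).card % 2
      = if (E_20).testBit κ = true then 1 else 0 :=
  colO_pack 23 17 16744447 fac_20.1 fac_20.2.1 (Nat.eq_of_beq_eq_true fac_20.2.2.1)
    fac_20.2.2.2.1 (by norm_num) (by norm_num) fac_20.2.2.2.2.1 fac_20.2.2.2.2.2 pass_20
    (rhoG_rep (by norm_num)) κ

/-- all columns -/
theorem col_all [Fintype ↥M24] : ∀ j < 21, ∀ κ : ℕ,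
    (Finset.univ.filter fun x : ↥M24 => cdG x = κ ∧ cdG (x⁻¹ * rhoG j) = κ).card % 2
      = if (Etab j).testBit κ = true then 1 else 0 := by
  intro j hj κ
  interval_cases j
  · exact col_0 κ
  · exact col_1 κ
  · exact col_2 κ
  · exact col_3 κ
  · exact col_4 κ
  · exact col_5 κ
  · exact col_6 κ
  · exact col_7 κ
  · exact col_8 κ
  · exact col_9 κ
  · exact col_10 κ
  · exact col_11 κ
  · exact col_12 κ
  · exact col_13 κ
  · exact col_14 κ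
  · exact col_15 κ
  · exact col_16 κ
  · exact col_17 κ
  · exact col_18 κ
  · exact col_19 κ
  · exact col_20 κ

end Cfsg.Agent.H33.Blk
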