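import Cfsg.Agent.H33.Blk.Code
import Cfsg.Agent.H33.Blk.InvD0
import Cfsg.Agent.H33.Blk.InvD1
import Cfsg.Agent.H33.Blk.InvD2
import Cfsg.Agent.H33.Blk.InvD3

/-!
# The list of the elements of order at most 2 of `M24` (helper33; generated)
-/

set_option autoImplicit false

namespace Cfsg.Agent.H33.Blk

open Cfsg Cfsg.Agent.H9 Cfsg.Agent.H33 Cfsg.Agent.H94

/-- the chunk `d` of the list -/
def ichunk (d : ℕ) : ℕ :=
  (bif Nat.blt d 104 then (bif Nat.blt d 52 then (bif Nat.blt d 26 then (bif Nat.blt d 13 then (bif Nat.blt d 6 then (bif Nat.blt d 3 then (bif Nat.blt d 1 then ik_0
              else (bif Nat.blt d 2 then ik_1
                else ik_2))
            else (bif Nat.blt d 4 then ik_3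
              else (bif Nat.blt d 5 then ik_4
                else ik_5)))
          else (bif Nat.blt d 9 then (bif Nat.blt d 7 then ik_6
              else (bif Nat.blt d 8 then ik_7
                else ik_8))
            else (bif Nat.blt d 11 then (bif Nat.blt d 10 then ik_9
                else ik_10)
              else (bif Nat.blt d 12 then ik_11
                else ik_12))))
        else (bif Nat.blt d 19 then (bif Nat.blt d 16 then (bif Nat.blt d 14 then ik_13
              else (bif Nat.blt d 15 then ik_14
                else ik_15))
            else (bif Nat.blt d 17 then ik_16
              else (bif Nat.blt d 18 then ik_17
                else ik_18)))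
          else (bif Nat.blt d 22 then (bif Nat.blt d 20 then ik_19
              else (bif Nat.blt d 21 then ik_20
                else ik_21))
            else (bif Nat.blt d 24 then (bif Nat.blt d 23 then ik_22
                else ik_23)
              else (bif Nat.blt d 25 then ik_24
                else ik_25)))))
      else (bif Nat.blt d 39 then (bif Nat.blt d 32 then (bif Nat.blt d 29 then (bif Nat.blt d 27 then ik_26
              else (bif Nat.blt d 28 then ik_27
                else ik_28))
            else (bif Nat.blt d 30 then ik_29
              else (bif Nat.blt d 31 then ik_30
                else ik_31)))
          else (bif Nat.blt d 35 then (bif Nat.blt d 33 then ik_32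
              else (bif Nat.blt d 34 then ik_33
                else ik_34))
            else (bif Nat.blt d 37 then (bif Nat.blt d 36 then ik_35
                else ik_36)
              else (bif Nat.blt d 38 then ik_37
                else ik_38))))
        else (bif Nat.blt d 45 then (bif Nat.blt d 42 then (bif Nat.blt d 40 then ik_39
              else (bif Nat.blt d 41 then ik_40
                else ik_41))
            else (bif Nat.blt d 43 then ik_42
              else (bif Nat.blt d 44 then ik_43
                else ik_44)))
          else (bif Nat.blt d 48 then (bif Nat.blt d 46 then ik_45
              else (bif Nat.blt d 47 then ik_46
                else ik_47))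
            else (bif Nat.blt d 50 then (bif Nat.blt d 49 then ik_48
                else ik_49)
              else (bif Nat.blt d 51 then ik_50
                else ik_51))))))
    else (bif Nat.blt d 78 then (bif Nat.blt d 65 then (bif Nat.blt d 58 then (bif Nat.blt d 55 then (bif Nat.blt d 53 then ik_52
              else (bif Nat.blt d 54 then ik_53
                else ik_54))
            else (bif Nat.blt d 56 then ik_55
              else (bif Nat.blt d 57 then ik_56
                else ik_57)))
          else (bif Nat.blt d 61 then (bif Nat.blt d 59 then ik_58
              else (bif Nat.blt d 60 then ik_59
                else ik_60))
            else (bif Nat.blt d 63 then (bif Nat.blt d 62 then ik_61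
                else ik_62)
              else (bif Nat.blt d 64 then ik_63
                else ik_64))))
        else (bif Nat.blt d 71 then (bif Nat.blt d 68 then (bif Nat.blt d 66 then ik_65
              else (bif Nat.blt d 67 then ik_66
                else ik_67))
            else (bif Nat.blt d 69 then ik_68
              else (bif Nat.blt d 70 then ik_69
                else ik_70)))
          else (bif Nat.blt d 74 then (bif Nat.blt d 72 then ik_71
              else (bif Nat.blt d 73 then ik_72
                else ik_73))
            else (bif Nat.blt d 76 then (bif Nat.blt d 75 then ik_74
                else ik_75)
              else (bif Nat.blt d 77 then ik_76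
                else ik_77)))))
      else (bif Nat.blt d 91 then (bif Nat.blt d 84 then (bif Nat.blt d 81 then (bif Nat.blt d 79 then ik_78
              else (bif Nat.blt d 80 then ik_79
                else ik_80))
            else (bif Nat.blt d 82 then ik_81
              else (bif Nat.blt d 83 then ik_82
                else ik_83)))
          else (bif Nat.blt d 87 then (bif Nat.blt d 85 then ik_84
              else (bif Nat.blt d 86 then ik_85
                else ik_86))
            else (bif Nat.blt d 89 then (bif Nat.blt d 88 then ik_87
                else ik_88)
              else (bif Nat.blt d 90 then ik_89
                else ik_90))))
        else (bif Nat.blt d 97 then (bif Nat.blt d 94 then (bif Nat.blt d 92 then ik_91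
              else (bif Nat.blt d 93 then ik_92
                else ik_93))
            else (bif Nat.blt d 95 then ik_94
              else (bif Nat.blt d 96 then ik_95
                else ik_96)))
          else (bif Nat.blt d 100 then (bif Nat.blt d 98 then ik_97
              else (bif Nat.blt d 99 then ik_98
                else ik_99))
            else (bif Nat.blt d 102 then (bif Nat.blt d 101 then ik_100
                else ik_101)
              else (bif Nat.blt d 103 then ik_102
                else ik_103)))))))
  else (bif Nat.blt d 156 then (bif Nat.blt d 130 then (bif Nat.blt d 117 then (bif Nat.blt d 110 then (bif Nat.blt d 107 then (bif Nat.blt d 105 then ik_104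
              else (bif Nat.blt d 106 then ik_105
                else ik_106))
            else (bif Nat.blt d 108 then ik_107
              else (bif Nat.blt d 109 then ik_108
                else ik_109)))
          else (bif Nat.blt d 113 then (bif Nat.blt d 111 then ik_110
              else (bif Nat.blt d 112 then ik_111
                else ik_112))
            else (bif Nat.blt d 115 then (bif Nat.blt d 114 then ik_113
                else ik_114)
              else (bif Nat.blt d 116 then ik_115
                else ik_116))))
        else (bif Nat.blt d 123 then (bif Nat.blt d 120 then (bif Nat.blt d 118 then ik_117
              else (bif Nat.blt d 119 then ik_118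
                else ik_119))
            else (bif Nat.blt d 121 then ik_120
              else (bif Nat.blt d 122 then ik_121
                else ik_122)))
          else (bif Nat.blt d 126 then (bif Nat.blt d 124 then ik_123
              else (bif Nat.blt d 125 then ik_124
                else ik_125))
            else (bif Nat.blt d 128 then (bif Nat.blt d 127 then ik_126
                else ik_127)
              else (bif Nat.blt d 129 then ik_128
                else ik_129)))))
      else (bif Nat.blt d 143 then (bif Nat.blt d 136 then (bif Nat.blt d 133 then (bif Nat.blt d 131 then ik_130
              else (bif Nat.blt d 132 then ik_131
                else ik_132))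
            else (bif Nat.blt d 134 then ik_133
              else (bif Nat.blt d 135 then ik_134
                else ik_135)))
          else (bif Nat.blt d 139 then (bif Nat.blt d 137 then ik_136
              else (bif Nat.blt d 138 then ik_137
                else ik_138))
            else (bif Nat.blt d 141 then (bif Nat.blt d 140 then ik_139
                else ik_140)
              else (bif Nat.blt d 142 then ik_141
                else ik_142))))
        else (bif Nat.blt d 149 then (bif Nat.blt d 146 then (bif Nat.blt d 144 then ik_143
              else (bif Nat.blt d 145 then ik_144
                else ik_145))
            else (bif Nat.blt d 147 then ik_146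
              else (bif Nat.blt d 148 then ik_147
                else ik_148)))
          else (bif Nat.blt d 152 then (bif Nat.blt d 150 then ik_149
              else (bif Nat.blt d 151 then ik_150
                else ik_151))
            else (bif Nat.blt d 154 then (bif Nat.blt d 153 then ik_152
                else ik_153)
              else (bif Nat.blt d 155 then ik_154
                else ik_155))))))
    else (bif Nat.blt d 182 then (bif Nat.blt d 169 then (bif Nat.blt d 162 then (bif Nat.blt d 159 then (bif Nat.blt d 157 then ik_156
              else (bif Nat.blt d 158 then ik_157
                else ik_158))
            else (bif Nat.blt d 160 then ik_159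
              else (bif Nat.blt d 161 then ik_160
                else ik_161)))
          else (bif Nat.blt d 165 then (bif Nat.blt d 163 then ik_162
              else (bif Nat.blt d 164 then ik_163
                else ik_164))
            else (bif Nat.blt d 167 then (bif Nat.blt d 166 then ik_165
                else ik_166)
              else (bif Nat.blt d 168 then ik_167
                else ik_168))))
        else (bif Nat.blt d 175 then (bif Nat.blt d 172 then (bif Nat.blt d 170 then ik_169
              else (bif Nat.blt d 171 then ik_170
                else ik_171))
            else (bif Nat.blt d 173 then ik_172
              else (bif Nat.blt d 174 then ik_173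
                else ik_174)))
          else (bif Nat.blt d 178 then (bif Nat.blt d 176 then ik_175
              else (bif Nat.blt d 177 then ik_176
                else ik_177))
            else (bif Nat.blt d 180 then (bif Nat.blt d 179 then ik_178
                else ik_179)
              else (bif Nat.blt d 181 then ik_180
                else ik_181)))))
      else (bif Nat.blt d 195 then (bif Nat.blt d 188 then (bif Nat.blt d 185 then (bif Nat.blt d 183 then ik_182
              else (bif Nat.blt d 184 then ik_183
                else ik_184))
            else (bif Nat.blt d 186 then ik_185
              else (bif Nat.blt d 187 then ik_186
                else ik_187)))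
          else (bif Nat.blt d 191 then (bif Nat.blt d 189 then ik_188
              else (bif Nat.blt d 190 then ik_189
                else ik_190))
            else (bif Nat.blt d 193 then (bif Nat.blt d 192 then ik_191
                else ik_192)
              else (bif Nat.blt d 194 then ik_193
                else ik_194))))
        else (bif Nat.blt d 201 then (bif Nat.blt d 198 then (bif Nat.blt d 196 then ik_195
              else (bif Nat.blt d 197 then ik_196
                else ik_197))
            else (bif Nat.blt d 199 then ik_198
              else (bif Nat.blt d 200 then ik_199
                else ik_200)))
          else (bif Nat.blt d 204 then (bif Nat.blt d 202 then ik_201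
              else (bif Nat.blt d 203 then ik_202
                else ik_203))
            else (bif Nat.blt d 206 then (bif Nat.blt d 205 then ik_204
                else ik_205)
              else (bif Nat.blt d 207 then ik_206
                else ik_207))))))))

/-- the list of the elements `z` of `M24` with `z * z = 1`, in increasing order -/
def Tinv (n : ℕ) : ℕ := fldG (ichunk (Nat.div n 208)) (Nat.mod n 208)

/-- a packed permutation that is its own inverse -/
def chkSelf (t : ℕ) : Bool := allB (fun i => Nat.blt (lk t i) 24 && Nat.beq (lk t (lk t i)) i) 24

/-- membership check for the chunk `c` -/
def memC (c : ℕ) : Bool :=
  strictB (ichunk c) (fun K => allB (fun n => strictB (fldG K n) (fun t => chkSelf t && chkM24 t)) 208)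

/-- membership check for the chunks `13 d, …, 13 d + 12` -/
def memR (d : ℕ) : Bool := allB (fun c => memC (Nat.add (Nat.mul d 13) c)) 13

/-- order check inside the chunk `c` -/
def ordC (c : ℕ) : Bool :=
  strictB (ichunk c) (fun K => allB (fun n => Nat.blt (fldG K n) (fldG K (Nat.add n 1))) 207)

/-- order check between the chunks `c` and `c + 1` -/
def bndC (c : ℕ) : Bool := Nat.blt (fldG (ichunk c) 207) (fldG (ichunk (Nat.add c 1)) 0)

end Cfsg.Agent.H33.Blk
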